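import Mathlib
import Groth.Agent.Lib.Helper8.LCI.Fibre5

set_option autoImplicit false
set_option linter.style.haveILetI false

universe u

open Function CategoryTheory RingTheory.Sequence

namespace Groth.Agent.H8.Synt

open Groth.Agent.H1 Groth.Agent.H8.LCI

variable {A P : Type u} [CommRing A] [CommRing P] [Algebra A P] (I : Ideal P)
  (𝔮 : Ideal P) [𝔮.IsPrime]

/-- Lift regular generators of the image of `I` in the fibre local ring to elements of
`I`, up to units (general form of `LCI.exists_lift_regular`). -/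
theorem exists_lift_regular_of_gens
    (hgens : ∃ rs : List (Localization.AtPrime 𝔮 ⧸ pL (A := A) 𝔮),
      RingTheory.Sequence.IsRegular (Localization.AtPrime 𝔮 ⧸ pL (A := A) 𝔮) rs ∧
      Ideal.ofList rs = JR (A := A) I 𝔮) :
    ∃ ys : List P, (∀ y ∈ ys, y ∈ I) ∧
      RingTheory.Sequence.IsRegular (Localization.AtPrime 𝔮 ⧸ pL (A := A) 𝔮)
        (ys.map (algebraMap P (Localization.AtPrime 𝔮 ⧸ pL (A := A) 𝔮))) ∧
      Ideal.ofList (ys.map (algebraMap P (Localization.AtPrime 𝔮 ⧸ pL (A := A) 𝔮))) =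
        JR (A := A) I 𝔮 := by
  classical
  obtain ⟨rs, hreg, hspan⟩ := hgens
  set ρ := algebraMap P (Localization.AtPrime 𝔮 ⧸ pL (A := A) 𝔮) with hρ
  have hxJ : ∀ i : Fin rs.length, rs[i] ∈ JR (A := A) I 𝔮 := by
    intro i
    rw [← hspan]
    exact Ideal.subset_span (List.getElem_mem _)
  have hlift : ∀ i : Fin rs.length, ∃ q : I × 𝔮.primeCompl, rs[i] * ρ q.2 = ρ q.1 := by
    intro i
    obtain ⟨k, hk, hkx⟩ :=
      (Ideal.mem_map_iff_of_surjective _ Ideal.Quotient.mk_surjective).mp (hxJ i)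
    obtain ⟨q, hq⟩ :=
      (IsLocalization.mem_map_algebraMap_iff 𝔮.primeCompl (Localization.AtPrime 𝔮)).mp hk
    refine ⟨q, ?_⟩
    rw [← hkx]
    show Ideal.Quotient.mk _ k * Ideal.Quotient.mk _ (algebraMap P (Localization.AtPrime 𝔮) q.2) =
      Ideal.Quotient.mk _ (algebraMap P (Localization.AtPrime 𝔮) q.1)
    rw [← map_mul, hq]
  choose q hq using hlift
  let ys : List P := List.ofFn fun i => ((q i).1 : P)
  have hys : ∀ a ∈ ys, a ∈ I := by
    intro a ha
    rw [List.mem_ofFn] at ha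
    obtain ⟨i, rfl⟩ := ha
    exact (q i).1.2
  have hmap : ys.map ρ = List.ofFn fun i => ρ (q i).1 := by
    rw [List.map_ofFn]; rfl
  have hlen : rs.length = (ys.map ρ).length := by
    rw [hmap, List.length_ofFn]
  have hunit : ∀ i (h : i < rs.length),
      ∃ c, IsUnit c ∧ (ys.map ρ)[i]'(hlen ▸ h) = rs[i] * c := by
    intro i h
    refine ⟨ρ (q ⟨i, h⟩).2, ?_, ?_⟩
    · have h1 : IsUnit (algebraMap P (Localization.AtPrime 𝔮) (q ⟨i, h⟩).2) :=
        IsLocalization.map_units _ _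
      exact h1.map (Ideal.Quotient.mk (pL (A := A) 𝔮))
    · simp only [hmap, List.getElem_ofFn]
      exact (hq ⟨i, h⟩).symm
  refine ⟨ys, hys, Groth.Agent.H1.Spread.isRegular_of_unit_mul _ _ hlen hunit hreg, ?_⟩
  rw [Groth.Agent.H1.Spread.ofList_eq_of_unit_mul _ _ hlen hunit, ← hspan]

variable [Algebra.FinitePresentation A P] [Module.Flat A P]

/-- **Core**: `A → P` flat of finite presentation, `I ⊆ P` finitely generated with `P/I`
flat over `A`; at a prime `𝔮 ⊇ I` such that the image of `I` in the fibre local ring is generated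
by a regular sequence, `I` is generated near `𝔮` by a weakly regular sequence of elements of `I`. -/
theorem exists_away_weaklyRegular_of_gens' (hfg : I.FG) [Module.Flat A (P ⧸ I)]
    (hgens : ∃ rs : List (Localization.AtPrime 𝔮 ⧸ pL (A := A) 𝔮),
      RingTheory.Sequence.IsRegular (Localization.AtPrime 𝔮 ⧸ pL (A := A) 𝔮) rs ∧
      Ideal.ofList rs = JR (A := A) I 𝔮) :
    ∃ g : P, g ∉ 𝔮 ∧ ∃ ys : List P, (∀ y ∈ ys, y ∈ I) ∧
      IsWeaklyRegular (Localization.Away g) (ys.map (algebraMap P (Localization.Away g))) ∧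
      I.map (algebraMap P (Localization.Away g)) =
        Ideal.ofList (ys.map (algebraMap P (Localization.Away g))) := by
  obtain ⟨ys, hys, hreg, hgen⟩ := exists_lift_regular_of_gens (A := A) I 𝔮 hgens
  obtain ⟨g₁, hg₁, Hg₁⟩ := exists_mul_mem_ofList (A := A) I 𝔮 hfg ys hys hgen
  have hwr := wrcond_of_isWeaklyRegular (A := A) 𝔮 ys hreg.toIsWeaklyRegular
  obtain ⟨t, ht, Ht⟩ := exists_pow_mul_mem (A := A) 𝔮 ys hwr
  refine ⟨t * g₁, fun h => ?_, ys, hys, ?_, ?_⟩
  · rcases (Ideal.IsPrime.mem_or_mem inferInstance h) with h1 | h1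
    · exact ht h1
    · exact hg₁ h1
  · exact isWeaklyRegular_away (t * g₁) ys fun i hi m hm => Ht i hi m hm g₁
  · rw [← Ideal.map_ofList]
    apply le_antisymm
    · rw [Ideal.map_le_iff_le_comap]
      intro c hc
      rw [Ideal.mem_comap, IsLocalization.algebraMap_mem_map_algebraMap_iff
        (Submonoid.powers (t * g₁))]
      refine ⟨t * g₁, Submonoid.mem_powers _, ?_⟩
      rw [mul_assoc]
      exact Ideal.mul_mem_left _ _ (Hg₁ c hc)
    · exact Ideal.map_mono (Ideal.span_le.mpr hys)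

theorem exists_away_weaklyRegular_of_gens (hfg : I.FG) [Module.Flat A (P ⧸ I)]
    (hgens : ∃ rs : List (Localization.AtPrime 𝔮 ⧸ pL (A := A) 𝔮),
      RingTheory.Sequence.IsRegular (Localization.AtPrime 𝔮 ⧸ pL (A := A) 𝔮) rs ∧
      Ideal.ofList rs = JR (A := A) I 𝔮) :
    ∃ g : P, g ∉ 𝔮 ∧ ∃ ys : List P,
      IsWeaklyRegular (Localization.Away g) (ys.map (algebraMap P (Localization.Away g))) ∧
      I.map (algebraMap P (Localization.Away g)) =
        Ideal.ofList (ys.map (algebraMap P (Localization.Away g))) := by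
  obtain ⟨g, hg, ys, -, h1, h2⟩ := exists_away_weaklyRegular_of_gens' (A := A) I 𝔮 hfg hgens
  exact ⟨g, hg, ys, h1, h2⟩

end Groth.Agent.H8.Synt
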