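import Mathlib
import Groth.Agent.Lib.Helper6.FiberDict

set_option autoImplicit false
set_option linter.style.haveILetI false

universe u

open TensorProduct Algebra

namespace Groth.Agent.H8.Synt

open Groth.Agent.H6

section gen
variable {R S P : Type*} [CommSemiring R] [CommSemiring S] [CommSemiring P] [Algebra R S] [Algebra R P]

lemma localAlgEquiv_algebraMap (I : Ideal S) [I.IsPrime] (J : Ideal P) [J.IsPrime]
    (f : S ≃ₐ[R] P) (hIJ : I = J.comap f) (x : S) :
    Localization.localAlgEquiv I J f hIJ (algebraMap S _ x) = algebraMap P _ (f x) :=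
  Localization.localRingHom_to_map I J (f : S →+* P) hIJ x

lemma localAlgEquiv_symm_algebraMap (I : Ideal S) [I.IsPrime] (J : Ideal P) [J.IsPrime]
    (f : S ≃ₐ[R] P) (hIJ : I = J.comap f) (y : P) :
    (Localization.localAlgEquiv I J f hIJ).symm (algebraMap P _ y) = algebraMap S _ (f.symm y) := by
  rw [AlgEquiv.symm_apply_eq, localAlgEquiv_algebraMap, AlgEquiv.apply_symm_apply]

end gen

variable {A B : Type u} [CommRing A] [CommRing B] [Algebra A B] (p : Ideal A) [p.IsPrime]
  (P : Ideal (p.Fiber B)) [P.IsPrime]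

/-- `B_p / p B_p`. -/
abbrev TT : Type u := Localization (algebraMapSubmonoid B p.primeCompl) ⧸
  (p.map (algebraMap A B)).map (algebraMap B (Localization (algebraMapSubmonoid B p.primeCompl)))

attribute [local instance] Algebra.TensorProduct.rightAlgebra in
theorem aux1 (b : B) :
    (Localization.localAlgEquiv (Ideal.comap (Ideal.Fiber.algEquivAux₁ p).symm P) P
      (Ideal.Fiber.algEquivAux₁ p (S := B)).symm rfl).symm
        (algebraMap (p.Fiber B) (Localization.AtPrime P) (1 ⊗ₜ[A] b)) =
      algebraMap (TT (B := B) p)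
        (Localization.AtPrime (Ideal.comap (Ideal.Fiber.algEquivAux₁ p).symm P))
        (algebraMap B (TT (B := B) p) b) := by
  rw [localAlgEquiv_symm_algebraMap]
  congr 1
  have : (1 : p.ResidueField) ⊗ₜ[A] b = algebraMap B (p.Fiber B) b := rfl
  rw [this, AlgEquiv.symm_symm]
  exact ((Ideal.Fiber.algEquivAux₁ p (S := B)).commutes b)

end Groth.Agent.H8.Synt

namespace Groth.Agent.H8.Synt
open Groth.Agent.H6
variable {A B : Type u} [CommRing A] [CommRing B] [Algebra A B] (p : Ideal A) [p.IsPrime]
  (P : Ideal (p.Fiber B)) [P.IsPrime]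

theorem algEquivAux₂_algebraMap (b : B) :
    Ideal.Fiber.algEquivAux₂ p P (algebraMap (p.Fiber B) (Localization.AtPrime P) (1 ⊗ₜ[A] b)) =
      Ideal.Quotient.mk _ (algebraMap B (Localization.AtPrime (FiberDict.under p P)) b) := by
  unfold Ideal.Fiber.algEquivAux₂
  simp only [AlgEquiv.trans_apply, AlgEquiv.restrictScalars_apply]
  rw [aux1]
  rw [IsScalarTower.algebraMap_apply B (B ⧸ p.map (algebraMap A B)) (TT (B := B) p),
    ← IsScalarTower.algebraMap_apply (B ⧸ p.map (algebraMap A B)) (TT (B := B) p)]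
  rw [AlgEquiv.commutes]
  rfl

end Groth.Agent.H8.Synt

namespace Groth.Agent.H8.Synt
open Groth.Agent.H6
variable {A B : Type u} [CommRing A] [CommRing B] [Algebra A B] (p : Ideal A) [p.IsPrime]
  (P : Ideal (p.Fiber B)) [P.IsPrime]

/-- Naturality of the dictionary iso: it is compatible with the maps from `B`. -/
theorem ringEquiv_algebraMap (b : B) :
    FiberDict.ringEquiv p P (algebraMap (p.Fiber B) (Localization.AtPrime P) (1 ⊗ₜ[A] b)) =
      Ideal.Quotient.mk _ (algebraMap B (Localization.AtPrime (FiberDict.under p P)) b) := by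
  unfold FiberDict.ringEquiv
  rw [RingEquiv.trans_apply]
  erw [algEquivAux₂_algebraMap]
  rfl

end Groth.Agent.H8.Synt
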