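import Mathlib

set_option autoImplicit false
set_option linter.style.haveILetI false

namespace Groth.Agent.H8.Synt

variable {R R' : Type*} [CommRing R] [CommRing R'] (ψ : R →+* R') (hψ : Function.Surjective ψ)
  (Q : Ideal R) [Q.IsPrime] (Q' : Ideal R') [Q'.IsPrime] (hQ : Q = Q'.comap ψ)

include hψ in
theorem localRingHom_surjective :
    Function.Surjective (Localization.localRingHom Q Q' ψ hQ) := by
  intro y
  obtain ⟨a', s', rfl⟩ := IsLocalization.exists_mk'_eq Q'.primeCompl y
  obtain ⟨a, rfl⟩ := hψ a'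
  obtain ⟨s, hs⟩ := hψ s'
  have hsQ : s ∈ Q.primeCompl := by
    intro h
    have h' : s ∈ Q'.comap ψ := hQ ▸ h
    rw [Ideal.mem_comap, hs] at h'
    exact s'.2 h'
  refine ⟨IsLocalization.mk' _ a ⟨s, hsQ⟩, ?_⟩
  rw [Localization.localRingHom_mk']
  congr 1
  exact Subtype.ext hs

include hψ in
theorem ker_localRingHom :
    RingHom.ker (Localization.localRingHom Q Q' ψ hQ) =
      (RingHom.ker ψ).map (algebraMap R (Localization.AtPrime Q)) := by
  apply le_antisymm
  · intro x hx
    obtain ⟨a, s, rfl⟩ := IsLocalization.exists_mk'_eq Q.primeCompl x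
    rw [RingHom.mem_ker, Localization.localRingHom_mk', IsLocalization.mk'_eq_zero_iff] at hx
    obtain ⟨t', ht'⟩ := hx
    obtain ⟨t, ht⟩ := hψ t'
    have htQ : t ∈ Q.primeCompl := by
      intro h
      have h' : t ∈ Q'.comap ψ := hQ ▸ h
      rw [Ideal.mem_comap, ht] at h'
      exact t'.2 h'
    rw [IsLocalization.mk'_mem_map_algebraMap_iff]
    refine ⟨t, htQ, ?_⟩
    rw [RingHom.mem_ker, map_mul, ht]
    exact ht'
  · rw [Ideal.map_le_iff_le_comap]
    intro a ha
    rw [Ideal.mem_comap, RingHom.mem_ker, Localization.localRingHom_to_map,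
      (RingHom.mem_ker).mp ha, map_zero]

end Groth.Agent.H8.Synt
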