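import Mathlib
import Groth.Prelude
import Groth.Agent.Lib.Helper8.Synt.FibNat
import Groth.Agent.Lib.Helper8.Synt.Loc
import Groth.Agent.Lib.Helper8.Synt.Core
import Groth.Agent.Lib.Helper8.CI.CILocal2

set_option autoImplicit false
set_option linter.style.haveILetI false

universe u

open TensorProduct Algebra

namespace Groth.Agent.H8.Synt

open Groth.Agent.H6 Groth.Agent.H8.LCI Groth.Agent.H8.CILocal

variable {A P : Type u} [CommRing A] [CommRing P] [Algebra A P] (I : Ideal P)
  (p : Ideal A) [p.IsPrime]

/-- the base change of `P → P/I` to the fibre. -/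
noncomputable def fibMap : p.Fiber P →ₐ[p.ResidueField] p.Fiber (P ⧸ I) :=
  Algebra.TensorProduct.map (AlgHom.id p.ResidueField p.ResidueField) (Ideal.Quotient.mkₐ A I)

lemma fibMap_surjective : Function.Surjective (fibMap I p) := by
  have : ⇑(fibMap I p) = ⇑(TensorProduct.map (LinearMap.id (R := A) (M := p.ResidueField))
      (Ideal.Quotient.mkₐ A I).toLinearMap) := by
    ext x
    induction x using TensorProduct.induction_on with
    | zero => simp
    | tmul a b => simp [fibMap]
    | add x y hx hy => simp only [map_add, hx, hy]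
  rw [this]
  exact TensorProduct.map_surjective Function.surjective_id (Ideal.Quotient.mkₐ_surjective A I)

lemma ker_fibMap : RingHom.ker (fibMap I p) =
    I.map (Algebra.TensorProduct.includeRight : P →ₐ[A] p.Fiber P) := by
  have h := Algebra.TensorProduct.lTensor_ker (A := p.ResidueField) (Ideal.Quotient.mkₐ A I)
    (Ideal.Quotient.mkₐ_surjective A I)
  have h2 : RingHom.ker (Ideal.Quotient.mkₐ A I) = I := Ideal.Quotient.mkₐ_ker A I
  rw [h2] at h
  rw [← h]
  ext x
  rw [RingHom.mem_ker, RingHom.mem_ker]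
  rfl

end Groth.Agent.H8.Synt

namespace Groth.Agent.H8.Synt
open TensorProduct Algebra
open Groth.Agent.H6 Groth.Agent.H8.LCI Groth.Agent.H8.CILocal

variable {A P : Type u} [CommRing A] [CommRing P] [Algebra A P] (I : Ideal P)
  (p : Ideal A) [p.IsPrime] (P' : Ideal (p.Fiber P)) [P'.IsPrime]

lemma ker_fibMap_le (hI : I ≤ FiberDict.under p P') : RingHom.ker (fibMap I p) ≤ P' := by
  rw [ker_fibMap, Ideal.map_le_iff_le_comap]
  exact hI

/-- the prime of the fibre of `P/I` corresponding to `P'`. -/
noncomputable abbrev Qfib : Ideal (p.Fiber (P ⧸ I)) := P'.map (fibMap I p)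

lemma isPrime_Qfib (hI : I ≤ FiberDict.under p P') : (Qfib I p P').IsPrime :=
  Ideal.map_isPrime_of_surjective (fibMap_surjective I p) (ker_fibMap_le I p P' hI)

lemma comap_Qfib (hI : I ≤ FiberDict.under p P') : P' = (Qfib I p P').comap (fibMap I p) := by
  rw [Ideal.comap_map_of_surjective' _ (fibMap_surjective I p)]
  exact (sup_eq_left.mpr (ker_fibMap_le I p P' hI)).symm

theorem exists_regular_gens_L [Algebra.FiniteType A P] [IsRegularRing (p.Fiber P)]
    (hI : I ≤ FiberDict.under p P')
    (hlci : Synt.IsLCIOver p.ResidueField (p.Fiber (P ⧸ I))) :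
    ∃ rs : List (Localization.AtPrime P'),
      RingTheory.Sequence.IsRegular (Localization.AtPrime P') rs ∧
      Ideal.ofList rs = (I.map (Algebra.TensorProduct.includeRight : P →ₐ[A] p.Fiber P)).map
        (algebraMap (p.Fiber P) (Localization.AtPrime P')) := by
  haveI := isPrime_Qfib I p P' hI
  have hci : Synt.IsCIOver p.ResidueField (Localization.AtPrime (Qfib I p P')) :=
    isCIOver_of_isLCIOver (Qfib I p P') hlci AlgEquiv.refl
  haveI : Algebra.FiniteType A (P ⧸ I) :=
    Algebra.FiniteType.of_surjective (Ideal.Quotient.mkₐ A I) (Ideal.Quotient.mkₐ_surjective A I)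
  haveI : Algebra.EssFiniteType p.ResidueField (Localization.AtPrime (Qfib I p P')) := by
    haveI : Algebra.EssFiniteType (p.Fiber (P ⧸ I)) (Localization.AtPrime (Qfib I p P')) :=
      Algebra.EssFiniteType.of_isLocalization _ (Qfib I p P').primeCompl
    exact Algebra.EssFiniteType.comp p.ResidueField (p.Fiber (P ⧸ I)) _
  have hess : Algebra.EssFiniteType p.ResidueField (Localization.AtPrime P') := by
    haveI : Algebra.EssFiniteType (p.Fiber P) (Localization.AtPrime P') :=
      Algebra.EssFiniteType.of_isLocalization _ P'.primeCompl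
    exact Algebra.EssFiniteType.comp p.ResidueField (p.Fiber P) _
  let π : Localization.AtPrime P' →ₐ[p.ResidueField] Localization.AtPrime (Qfib I p P') :=
    Localization.localAlgHom P' (Qfib I p P') (fibMap I p) (comap_Qfib I p P' hI)
  have hπ : Function.Surjective π :=
    localRingHom_surjective (fibMap I p).toRingHom (fibMap_surjective I p) P' (Qfib I p P')
      (comap_Qfib I p P' hI)
  obtain ⟨rs, hreg, hrs⟩ := (isCIOver_iff_forall_regular.mp hci) (Localization.AtPrime P') hess π hπ
  refine ⟨rs, hreg, ?_⟩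
  rw [← hrs, ← ker_fibMap]
  exact ker_localRingHom (fibMap I p).toRingHom (fibMap_surjective I p) P' (Qfib I p P')
      (comap_Qfib I p P' hI)

end Groth.Agent.H8.Synt

namespace Groth.Agent.H8.Synt
open TensorProduct Algebra
open Groth.Agent.H6 Groth.Agent.H8.LCI Groth.Agent.H8.CILocal

section transport
variable {R R' : Type*} [CommRing R] [CommRing R'] (e : R ≃+* R')

lemma isRegular_map_ringEquiv (rs : List R) (h : RingTheory.Sequence.IsRegular R rs) :
    RingTheory.Sequence.IsRegular R' (rs.map e) := by
  refine (AddEquiv.isRegular_congr (e := e.toAddEquiv) ?_).mp h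
  rw [List.forall₂_map_right_iff, List.forall₂_same]
  intro r _ x
  simp [smul_eq_mul]

end transport

variable {A P : Type u} [CommRing A] [CommRing P] [Algebra A P] (I : Ideal P)
  (p : Ideal A) [p.IsPrime] (P' : Ideal (p.Fiber P)) [P'.IsPrime]

theorem exists_regular_gens_under [Algebra.FiniteType A P] [IsRegularRing (p.Fiber P)]
    (hI : I ≤ FiberDict.under p P')
    (hlci : Synt.IsLCIOver p.ResidueField (p.Fiber (P ⧸ I))) :
    ∃ rs : List (Localization.AtPrime (FiberDict.under p P') ⧸ pL (A := A) (FiberDict.under p P')),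
      RingTheory.Sequence.IsRegular
        (Localization.AtPrime (FiberDict.under p P') ⧸ pL (A := A) (FiberDict.under p P')) rs ∧
      Ideal.ofList rs = JR (A := A) I (FiberDict.under p P') := by
  obtain ⟨rs, hreg, hrs⟩ := exists_regular_gens_L I p P' hI hlci
  let e : Localization.AtPrime P' ≃+*
      (Localization.AtPrime (FiberDict.under p P') ⧸ pL (A := A) (FiberDict.under p P')) :=
    FiberDict.ringEquiv p P'
  refine ⟨rs.map e, isRegular_map_ringEquiv e rs hreg, ?_⟩
  have h1 : Ideal.ofList (rs.map e) = (Ideal.ofList rs).map (e : _ →+* _) := by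
    rw [Ideal.map_ofList]
    rfl
  have h2 : I.map (Algebra.TensorProduct.includeRight : P →ₐ[A] p.Fiber P) =
      I.map (Algebra.TensorProduct.includeRight : P →ₐ[A] p.Fiber P).toRingHom := rfl
  rw [h1, hrs, h2, Ideal.map_map, Ideal.map_map]
  unfold JR KL
  rw [Ideal.map_map]
  congr 1
  ext b
  exact ringEquiv_algebraMap p P' b

end Groth.Agent.H8.Synt

namespace Groth.Agent.H8.Synt
open TensorProduct Algebra
open Groth.Agent.H6 Groth.Agent.H8.LCI Groth.Agent.H8.CILocal

variable {A P : Type u} [CommRing A] [CommRing P] [Algebra A P] (I : Ideal P)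

/-- **Fibre generators**: if the fibre of `P/I` over `p = 𝔮 ∩ A` is a local complete intersection
over `κ(p)` and the fibre of `P` is a regular ring, the image of `I` in the fibre local ring of `P`
at `𝔮` is generated by a regular sequence. -/
theorem exists_regular_gens_JR [Algebra.FiniteType A P] (𝔮 : Ideal P) [h𝔮 : 𝔮.IsPrime] (hI : I ≤ 𝔮)
    (p : Ideal A) [p.IsPrime] (hp : 𝔮.comap (algebraMap A P) = p)
    [IsRegularRing (p.Fiber P)]
    (hlci : Synt.IsLCIOver p.ResidueField (p.Fiber (P ⧸ I))) :
    ∃ rs : List (Localization.AtPrime 𝔮 ⧸ pL (A := A) 𝔮),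
      RingTheory.Sequence.IsRegular (Localization.AtPrime 𝔮 ⧸ pL (A := A) 𝔮) rs ∧
      Ideal.ofList rs = JR (A := A) I 𝔮 := by
  obtain ⟨P', hP', hu⟩ := FiberDict.exists_under_eq p 𝔮 hp
  have key : ∀ (r : Ideal P) (hr : r.IsPrime), FiberDict.under p P' = r → I ≤ r →
      ∃ rs : List (Localization.AtPrime r ⧸ pL (A := A) r),
      RingTheory.Sequence.IsRegular (Localization.AtPrime r ⧸ pL (A := A) r) rs ∧
      Ideal.ofList rs = JR (A := A) I r := by
    rintro r hr rfl hI
    exact exists_regular_gens_under I p P' hI hlci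
  exact key 𝔮 h𝔮 hu hI

end Groth.Agent.H8.Synt
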