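import Mathlib
import Groth.Prelude
import Groth.Agent.Lib.Helper8.LCI.KRCot
import Groth.Agent.Lib.Helper8.LCI.Fibre2
import Groth.Agent.Lib.Helper8.CI.CIMain
import Groth.Agent.Lib.Helper8.CI.LCILocal

set_option autoImplicit false
set_option linter.style.haveILetI false

universe u

open TensorProduct Algebra

namespace Groth.Agent.H8.Synt

open Groth.Agent.H8.LCI Groth.Agent.H8.CIMain

/-- Over a field, a local complete intersection ring map (Koszul-regular kernel) is a local
complete intersection in the sense of global complete intersection charts. -/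
theorem isLCIOver_of_isLCI_field (k T : Type u) [Field k] [CommRing T] [Algebra k T]
    (h : LCI.IsLCI k T) : Synt.IsLCIOver k T := by
  obtain ⟨hft, n, f, hf, hKR⟩ := h
  set I := RingHom.ker f.toRingHom with hI
  have e : (MvPolynomial (Fin n) k ⧸ I) ≃ₐ[k] T := Ideal.quotientKerAlgEquivOfSurjective hf
  apply Groth.Agent.H8.LCILocal.isLCIOver_of_algEquiv e
  refine ⟨inferInstance, fun q => ?_⟩
  haveI := q.2
  rw [exists_isGlobalCI_iff_isCI I q.asIdeal, isCI_iff_exists_isRegular']
  haveI := flat_cotangent_of_isKoszulRegularIdeal hKR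
  haveI := flat_cotangent_map I (q.asIdeal.comap (Ideal.Quotient.mk I)).primeCompl
    (Localization.AtPrime (q.asIdeal.comap (Ideal.Quotient.mk I)))
  obtain ⟨r, x, hxJ, hreg, hspan⟩ := exists_regular_gens_of_flat
    (I.map (algebraMap (MvPolynomial (Fin n) k)
      (Localization.AtPrime (q.asIdeal.comap (Ideal.Quotient.mk I))))) (map_ne_top I q.asIdeal)
  refine ⟨List.ofFn x, hreg, ?_⟩
  rw [← hspan]
  show Ideal.span {a | a ∈ List.ofFn x} = Ideal.span (Set.range x)
  congr 1
  ext a
  simp [List.mem_ofFn]

end Groth.Agent.H8.Synt
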