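import Mathlib
import Groth.Prelude
import Groth.Agent.Lib.Helper8.Synt.FibGens
import Groth.Agent.S15821

set_option autoImplicit false
set_option linter.style.haveILetI false

universe u

open TensorProduct Algebra

namespace Groth.Agent.H8.Synt

open Groth.Agent.H6 Groth.Agent.H8.LCI Groth.Agent.H8.CILocal

variable {A P : Type u} [CommRing A] [CommRing P] [Algebra A P] (I : Ideal P)

/-- `A → P` flat of finite presentation with regular fibres, `I` finitely generated with `P/I` flat
over `A` and with local complete intersection fibres: `I` is a Koszul-regular ideal. -/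
theorem isKoszulRegularIdeal_of_fibres [Algebra.FinitePresentation A P] [Module.Flat A P]
    (hfg : I.FG) [Module.Flat A (P ⧸ I)]
    (hreg : ∀ (p : Ideal A) [p.IsPrime], IsRegularRing (p.Fiber P))
    (hlci : ∀ p : PrimeSpectrum A, Synt.IsLCIOver p.asIdeal.ResidueField (p.asIdeal.Fiber (P ⧸ I))) :
    LCI.IsKoszulRegularIdeal I := by
  intro 𝔮 h𝔮
  haveI := hreg (𝔮.asIdeal.comap (algebraMap A P))
  have hgens := exists_regular_gens_JR (A := A) I 𝔮.asIdeal h𝔮 (𝔮.asIdeal.comap (algebraMap A P)) rfl
    (hlci ⟨𝔮.asIdeal.comap (algebraMap A P), inferInstance⟩)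
  obtain ⟨g, hg, ys, hwr, hgen⟩ := exists_away_weaklyRegular_of_gens (A := A) I 𝔮.asIdeal hfg hgens
  exact ⟨g, hg, _, (Groth.Agent.S15821.result _ _ hwr).1, hgen⟩

end Groth.Agent.H8.Synt
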