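import Mathlib
import Groth.Prelude
import Groth.Agent.Lib.Helper8.Synt.KR
import Groth.Agent.Lib.Helper8.Synt.Field
import Groth.Agent.H4.KF2

set_option autoImplicit false
set_option linter.style.haveILetI false

universe u

open TensorProduct Algebra

namespace Groth.Agent.H8.Synt

open Groth.Agent.H8.LCI

section fg
variable {P : Type u} [CommRing P] {I : Ideal P}

/-- A Koszul-regular ideal is finitely generated. -/
theorem fg_of_isKoszulRegularIdeal (hI : LCI.IsKoszulRegularIdeal I) : I.FG := by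
  let t : Set P := {g | (I.map (algebraMap P (Localization.Away g))).FG}
  apply Ideal.fg_of_localizationSpan t ?_ (fun g => g.2)
  by_contra hne
  obtain ⟨𝔪, h𝔪, hle⟩ := Ideal.exists_le_maximal _ hne
  haveI := h𝔪.isPrime
  have hsub : ∀ g ∈ t, g ∈ 𝔪 := fun g hg => hle (Ideal.subset_span hg)
  by_cases hI𝔪 : I ≤ 𝔪
  · obtain ⟨g, hg, l, -, hspan⟩ := hI ⟨𝔪, inferInstance⟩ hI𝔪
    apply hg
    apply hsub
    show (I.map (algebraMap P (Localization.Away g))).FG
    rw [hspan]
    classical
    refine ⟨l.toFinset, ?_⟩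
    congr 1
    ext x
    simp
  · obtain ⟨g, hgI, hg𝔪⟩ := SetLike.not_le_iff_exists.mp hI𝔪
    apply hg𝔪
    apply hsub
    show (I.map (algebraMap P (Localization.Away g))).FG
    have : I.map (algebraMap P (Localization.Away g)) = ⊤ := by
      apply Ideal.eq_top_of_isUnit_mem _ (Ideal.mem_map_of_mem _ hgI)
      exact IsLocalization.Away.algebraMap_isUnit g
    rw [this]
    exact ⟨{1}, by simp⟩

end fg

variable (R S : Type u) [CommRing R] [CommRing S] [Algebra R S]

theorem isLCI_of_isSyntomic (h : Synt.IsSyntomic R S) : LCI.IsLCI R S := by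
  obtain ⟨hflat, hfp, hfib⟩ := h
  obtain ⟨n, f, hf, hfg⟩ := Algebra.FinitePresentation.out (R := R) (A := S)
  refine ⟨inferInstance, n, f, hf, ?_⟩
  set I := RingHom.ker f.toRingHom with hI
  let e : (MvPolynomial (Fin n) R ⧸ I) ≃ₐ[R] S := Ideal.quotientKerAlgEquivOfSurjective hf
  haveI : Module.Flat R (MvPolynomial (Fin n) R ⧸ I) :=
    Module.Flat.of_linearEquiv e.toLinearEquiv
  apply isKoszulRegularIdeal_of_fibres (A := R) I hfg
  · intro p _
    exact IsRegularRing.of_ringEquiv
      (MvPolynomial.algebraTensorAlgEquiv R p.ResidueField (σ := Fin n)).symm.toRingEquiv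
  · intro p
    have e' : p.asIdeal.Fiber S ≃ₐ[p.asIdeal.ResidueField]
        p.asIdeal.Fiber (MvPolynomial (Fin n) R ⧸ I) :=
      Algebra.TensorProduct.congr AlgEquiv.refl e.symm
    exact Groth.Agent.H8.LCILocal.isLCIOver_of_algEquiv e' (hfib p)

end Groth.Agent.H8.Synt

namespace Groth.Agent.H8.Synt
open TensorProduct Algebra
open Groth.Agent.H8.LCI

variable (R S : Type u) [CommRing R] [CommRing S] [Algebra R S]

attribute [local instance] Algebra.TensorProduct.rightAlgebra in
theorem isSyntomic_of_flat_isLCI [Module.Flat R S] (h : LCI.IsLCI R S) : Synt.IsSyntomic R S := by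
  refine ⟨inferInstance, ?_, fun p => ?_⟩
  · obtain ⟨hft, n, f, hf, hKR⟩ := h
    exact Algebra.FinitePresentation.of_surjective hf (fg_of_isKoszulRegularIdeal hKR)
  · have h1 : LCI.IsLCI p.asIdeal.ResidueField (S ⊗[R] p.asIdeal.ResidueField) :=
      Groth.Agent.H4.KF2.isLCI_baseChange h
    have h2 := isLCIOver_of_isLCI_field _ _ h1
    exact Groth.Agent.H8.LCILocal.isLCIOver_of_algEquiv
      (Algebra.TensorProduct.commRight R p.asIdeal.ResidueField S).symm h2

theorem isSyntomic_iff : Synt.IsSyntomic R S ↔ Module.Flat R S ∧ LCI.IsLCI R S :=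
  ⟨fun h => ⟨h.1, isLCI_of_isSyntomic R S h⟩, fun ⟨h1, h2⟩ => isSyntomic_of_flat_isLCI R S h2⟩

end Groth.Agent.H8.Synt
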