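import Mathlib
import Groth.Agent.Lib.Helper1.RegRing

set_option autoImplicit false
set_option linter.style.haveILetI false

universe u

open TensorProduct

namespace Groth.Agent.H8.Synt

variable {R : Type u} [CommRing R] (n : ℕ) (g : MvPolynomial (Fin n) R) (p : Ideal R) [p.IsPrime]

attribute [local instance] Algebra.TensorProduct.rightAlgebra in
theorem isRegularRing_fiber_away : IsRegularRing (p.Fiber (Localization.Away g)) := by
  letI : Algebra (p.Fiber (MvPolynomial (Fin n) R)) (p.Fiber (Localization.Away g)) :=
    (Algebra.TensorProduct.map (AlgHom.id p.ResidueField p.ResidueField)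
      (IsScalarTower.toAlgHom R (MvPolynomial (Fin n) R) (Localization.Away g))).toRingHom.toAlgebra
  haveI : IsScalarTower p.ResidueField (p.Fiber (MvPolynomial (Fin n) R))
      (p.Fiber (Localization.Away g)) :=
    ⟨fun a b c => by
      show (Algebra.TensorProduct.map (AlgHom.id p.ResidueField p.ResidueField)
        (IsScalarTower.toAlgHom R (MvPolynomial (Fin n) R) (Localization.Away g))) (a • b) * c =
        a • ((Algebra.TensorProduct.map (AlgHom.id p.ResidueField p.ResidueField)
        (IsScalarTower.toAlgHom R (MvPolynomial (Fin n) R) (Localization.Away g))) b * c)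
      rw [map_smul, smul_mul_assoc]⟩
  have H : (algebraMap (p.Fiber (MvPolynomial (Fin n) R)) (p.Fiber (Localization.Away g))).comp
      (Algebra.TensorProduct.includeRight (R := R) (A := p.ResidueField)
        (B := MvPolynomial (Fin n) R)).toRingHom =
      (Algebra.TensorProduct.includeRight (R := R) (A := p.ResidueField)
        (B := Localization.Away g)).toRingHom.comp
        (algebraMap (MvPolynomial (Fin n) R) (Localization.Away g)) := by
    refine RingHom.ext fun x => ?_
    simp [RingHom.algebraMap_toAlgebra]
  haveI := IsLocalization.tensorProduct_tensorProduct_right R p.ResidueField (Submonoid.powers g)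
    (Localization.Away g) H
  haveI : IsRegularRing (p.Fiber (MvPolynomial (Fin n) R)) :=
    IsRegularRing.of_ringEquiv
      (MvPolynomial.algebraTensorAlgEquiv R p.ResidueField (σ := Fin n)).symm.toRingEquiv
  exact Groth.Agent.H1.Reg.isRegularRing_of_isLocalization (p.Fiber (MvPolynomial (Fin n) R))
    (Submonoid.map (Algebra.TensorProduct.includeRight (R := R) (A := p.ResidueField)
        (B := MvPolynomial (Fin n) R)) (Submonoid.powers g))
    (p.Fiber (Localization.Away g))

end Groth.Agent.H8.Synt
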