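import Mathlib

set_option autoImplicit false
set_option linter.style.haveILetI false

universe u

namespace Groth.Agent.H8.Synt

section
variable {S : Type u} [CommRing S] (g : S) (M : Type u) [AddCommGroup M] [Module S M]
  (T : Type u) [CommRing T] [Algebra S T] [IsLocalization.Away g T]
  (N : Type u) [AddCommGroup N] [Module S N] [Module T N] [IsScalarTower S T N]
  (f : M →ₗ[S] N) [IsLocalizedModule (Submonoid.powers g) f]

/-- the comparison iso of localizations `S_g ≃ T`. -/
noncomputable def awayEquiv : Localization.Away g ≃ₐ[S] T :=
  IsLocalization.algEquiv (Submonoid.powers g) _ _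

/-- the comparison of localized modules `M_g ≃ N`. -/
noncomputable def locModEquiv : LocalizedModule (Submonoid.powers g) M ≃ₗ[S] N :=
  IsLocalizedModule.iso (Submonoid.powers g) f

lemma locModEquiv_smul (a : Localization.Away g) (m : LocalizedModule (Submonoid.powers g) M) :
    locModEquiv g M N f (a • m) = awayEquiv g T a • locModEquiv g M N f m := by
  obtain ⟨s, ⟨_, k, rfl⟩, rfl⟩ := IsLocalization.exists_mk'_eq (Submonoid.powers g) a
  set u : Submonoid.powers g := ⟨g ^ k, k, rfl⟩ with hu'
  have hu : IsUnit (algebraMap S T (g ^ k)) := IsLocalization.map_units T u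
  have hinj : Function.Injective (fun n : N => algebraMap S T (g ^ k) • n) := by
    intro x y hxy
    have := congrArg (fun n => ((hu.unit⁻¹ : Tˣ) : T) • n) hxy
    simpa [smul_smul] using this
  apply hinj
  show algebraMap S T (g ^ k) • _ = algebraMap S T (g ^ k) • _
  have h1 : algebraMap S (Localization.Away g) (g ^ k) * IsLocalization.mk' (Localization.Away g) s u
      = algebraMap S (Localization.Away g) s := IsLocalization.mk'_spec' _ s u
  have hL : algebraMap S T (g ^ k) •
      locModEquiv g M N f (IsLocalization.mk' (Localization.Away g) s u • m) =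
      s • locModEquiv g M N f m := by
    rw [algebraMap_smul, ← map_smul, ← smul_assoc, Algebra.smul_def, h1, algebraMap_smul, map_smul]
  have hR : algebraMap S T (g ^ k) •
      (awayEquiv g T (IsLocalization.mk' (Localization.Away g) s u) • locModEquiv g M N f m) =
      s • locModEquiv g M N f m := by
    rw [smul_smul, ← (awayEquiv g T).commutes (g ^ k), ← map_mul, h1, (awayEquiv g T).commutes,
      algebraMap_smul]
  rw [hL, hR]

/-- the semilinear equivalence `M_g ≃ N` over `S_g ≃ T`. -/
noncomputable def locModSemiEquiv :
    letI σ : Localization.Away g →+* T := (awayEquiv g T : Localization.Away g →+* T)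
    letI σ' : T →+* Localization.Away g := ((awayEquiv g T).symm : T →+* Localization.Away g)
    haveI : RingHomInvPair σ σ' := RingHomInvPair.of_ringEquiv (awayEquiv g T).toRingEquiv
    haveI : RingHomInvPair σ' σ := RingHomInvPair.symm σ σ'
    LocalizedModule (Submonoid.powers g) M ≃ₛₗ[σ] N :=
  letI σ : Localization.Away g →+* T := (awayEquiv g T : Localization.Away g →+* T)
  letI σ' : T →+* Localization.Away g := ((awayEquiv g T).symm : T →+* Localization.Away g)
  haveI : RingHomInvPair σ σ' := RingHomInvPair.of_ringEquiv (awayEquiv g T).toRingEquiv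
  haveI : RingHomInvPair σ' σ := RingHomInvPair.symm σ σ'
  { toFun := locModEquiv g M N f
    map_add' := map_add _
    map_smul' := fun a m => locModEquiv_smul g M T N f a m
    invFun := (locModEquiv g M N f).symm
    left_inv := (locModEquiv g M N f).left_inv
    right_inv := (locModEquiv g M N f).right_inv }

include f in
theorem finite_projective_localizedModule [Module.Finite T N] [Module.Projective T N] :
    Module.Finite (Localization.Away g) (LocalizedModule (Submonoid.powers g) M) ∧
    Module.Projective (Localization.Away g) (LocalizedModule (Submonoid.powers g) M) := by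
  letI σ : Localization.Away g →+* T := (awayEquiv g T : Localization.Away g →+* T)
  letI σ' : T →+* Localization.Away g := ((awayEquiv g T).symm : T →+* Localization.Away g)
  haveI : RingHomInvPair σ σ' := RingHomInvPair.of_ringEquiv (awayEquiv g T).toRingEquiv
  haveI : RingHomInvPair σ' σ := RingHomInvPair.symm σ σ'
  haveI : RingHomSurjective σ' := ⟨(awayEquiv g T).symm.surjective⟩
  refine ⟨?_, ?_⟩
  · exact Module.Finite.of_surjective ((locModSemiEquiv g M T N f).symm : N →ₛₗ[σ'] _)
      (locModSemiEquiv g M T N f).symm.surjective
  · exact Module.Projective.of_equiv (locModSemiEquiv g M T N f).symm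

end

end Groth.Agent.H8.Synt
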