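import Mathlib
import Groth.Prelude
import Groth.Agent.Lib.Helper8.Synt.KR
import Groth.Agent.Lib.Helper8.Synt.LocMod
import Groth.Agent.Lib.Helper8.Synt.FibAway
import Groth.Agent.Lib.Helper8.LCI.KRCot
import Groth.Agent.Lib.Helper8.CI.LCILocal

set_option autoImplicit false
set_option linter.style.haveILetI false

universe u

open TensorProduct Algebra

namespace Groth.Agent.H8.Synt

open Groth.Agent.H8.LCI

theorem isSyntomic_of_algEquiv {R S S' : Type u} [CommRing R] [CommRing S] [CommRing S']
    [Algebra R S] [Algebra R S'] (e : S ≃ₐ[R] S') (h : Synt.IsSyntomic R S) :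
    Synt.IsSyntomic R S' := by
  obtain ⟨hflat, hfp, hfib⟩ := h
  refine ⟨Module.Flat.of_linearEquiv e.symm.toLinearEquiv, Algebra.FinitePresentation.equiv e,
    fun p => ?_⟩
  exact Groth.Agent.H8.LCILocal.isLCIOver_of_algEquiv
    (Algebra.TensorProduct.congr (AlgEquiv.refl (R := p.asIdeal.ResidueField)) e) (hfib p)

attribute [local instance] cotModule

theorem main9151 (R : Type u) [CommRing R] (n : ℕ)
    (I : Ideal (MvPolynomial (Fin n) R)) (hI : I.FG) (g : MvPolynomial (Fin n) R ⧸ I)
    (hg : Synt.IsSyntomic R (Localization.Away g)) :
    Module.Finite (Localization.Away g) (LocalizedModule (Submonoid.powers g) I.Cotangent) ∧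
      Module.Projective (Localization.Away g)
        (LocalizedModule (Submonoid.powers g) I.Cotangent) := by
  obtain ⟨g', rfl⟩ := Ideal.Quotient.mk_surjective g
  haveI hloc : IsLocalization.Away (Ideal.Quotient.mk I g')
      (Localization.Away g' ⧸ I.map (algebraMap _ (Localization.Away g'))) :=
    isLocalization_away_quot I g' _ rfl
  let e : Localization.Away (Ideal.Quotient.mk I g') ≃ₐ[MvPolynomial (Fin n) R ⧸ I]
      (Localization.Away g' ⧸ I.map (algebraMap _ (Localization.Away g'))) :=
    awayEquiv (Ideal.Quotient.mk I g') _
  haveI : IsScalarTower R (MvPolynomial (Fin n) R ⧸ I)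
      (Localization.Away g' ⧸ I.map (algebraMap _ (Localization.Away g'))) :=
    IsScalarTower.of_algebraMap_eq (R := R) (S := MvPolynomial (Fin n) R ⧸ I)
      (A := Localization.Away g' ⧸ I.map (algebraMap _ (Localization.Away g'))) fun a => by
      show Ideal.Quotient.mk (I.map (algebraMap _ (Localization.Away g')))
          (algebraMap R (Localization.Away g') a) =
        Ideal.Quotient.mk (I.map (algebraMap _ (Localization.Away g')))
          (algebraMap (MvPolynomial (Fin n) R) (Localization.Away g')
          (algebraMap R (MvPolynomial (Fin n) R) a))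
      rw [← IsScalarTower.algebraMap_apply]
  have hsynt : Synt.IsSyntomic R
      (Localization.Away g' ⧸ I.map (algebraMap _ (Localization.Away g'))) :=
    isSyntomic_of_algEquiv (e.restrictScalars R) hg
  haveI : Algebra.FinitePresentation (MvPolynomial (Fin n) R) (Localization.Away g') :=
    IsLocalization.Away.finitePresentation g'
  haveI : Algebra.FinitePresentation R (Localization.Away g') :=
    Algebra.FinitePresentation.trans R (MvPolynomial (Fin n) R) (Localization.Away g')
  haveI : Module.Flat (MvPolynomial (Fin n) R) (Localization.Away g') :=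
    IsLocalization.flat _ (Submonoid.powers g')
  haveI : Module.Flat R (Localization.Away g') :=
    Module.Flat.trans R (MvPolynomial (Fin n) R) (Localization.Away g')
  haveI : Module.Flat R (Localization.Away g' ⧸ I.map (algebraMap _ (Localization.Away g'))) :=
    hsynt.1
  have hKR : LCI.IsKoszulRegularIdeal (I.map (algebraMap _ (Localization.Away g'))) :=
    isKoszulRegularIdeal_of_fibres (A := R) _ (hI.map _)
      (fun p _ => isRegularRing_fiber_away n g' p) hsynt.2.2
  haveI := projective_cotangent_of_isKoszulRegularIdeal hKR
  haveI := finitePresentation_cotangent_of_isKoszulRegularIdeal hKR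
  haveI : Module.Finite (Localization.Away g' ⧸ I.map (algebraMap _ (Localization.Away g')))
      (I.map (algebraMap _ (Localization.Away g'))).Cotangent := inferInstance
  haveI := isLocalizedModule_cotQ_away I g' (Ideal.Quotient.mk I g') rfl
  exact finite_projective_localizedModule (Ideal.Quotient.mk I g') I.Cotangent
    (Localization.Away g' ⧸ I.map (algebraMap _ (Localization.Away g')))
    (I.map (algebraMap _ (Localization.Away g'))).Cotangent (cotQ I (Localization.Away g'))

end Groth.Agent.H8.Synt
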