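import Mathlib
import Groth.Prelude
import Groth.Agent.Lib.Helper8.Synt.Main9287
import Groth.Agent.Lib.Helper8.Synt.Main9151
import Groth.Agent.Lib.Helper8.CI.LCILocal
import Groth.Agent.Lib.Helper8.CI.CITransport
import Groth.Agent.Lib.Helper8.GCI.Loc
import Groth.Agent.Lib.Helper8.RGCI.Good
import Groth.Agent.H4.KF2

set_option autoImplicit false
set_option linter.style.haveILetI false

universe u

open TensorProduct Algebra

namespace Groth.Agent.H8.SyntLocal

open Groth.Agent.H8.Synt Groth.Agent.H8.RGCI

section baseChange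
variable (R S R' : Type u) [CommRing R] [CommRing S] [CommRing R'] [Algebra R S] [Algebra R R']

attribute [local instance] Algebra.TensorProduct.rightAlgebra in
/-- syntomic ring maps are stable under arbitrary base change. -/
theorem isSyntomic_baseChange (h : Synt.IsSyntomic R S) : Synt.IsSyntomic R' (R' ⊗[R] S) := by
  obtain ⟨hflat, hlci⟩ := (isSyntomic_iff R S).mp h
  have h1 : LCI.IsLCI R' (S ⊗[R] R') := Groth.Agent.H4.KF2.isLCI_baseChange hlci
  haveI : Module.Flat R' (S ⊗[R] R') :=
    Module.Flat.of_linearEquiv (Algebra.TensorProduct.commRight R R' S).symm.toLinearEquiv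
  have h2 : Synt.IsSyntomic R' (S ⊗[R] R') := isSyntomic_of_flat_isLCI R' (S ⊗[R] R') h1
  exact isSyntomic_of_algEquiv (Algebra.TensorProduct.commRight R R' S).symm h2

end baseChange

section target
variable (R S T : Type u) [CommRing R] [CommRing S] [CommRing T] [Algebra R S] [Algebra S T]
  [Algebra R T] [IsScalarTower R S T]

/-- composition with a localization away on the target. -/
theorem isSyntomic_trans_away_target (s : S) [IsLocalization.Away s T]
    (h : Synt.IsSyntomic R S) : Synt.IsSyntomic R T := by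
  obtain ⟨hflat, hfp, hfib⟩ := h
  haveI : Module.Flat S T := IsLocalization.flat T (Submonoid.powers s)
  haveI : Algebra.FinitePresentation S T := IsLocalization.Away.finitePresentation s
  refine ⟨Module.Flat.trans R S T, Algebra.FinitePresentation.trans R S T, fun p => ?_⟩
  letI : Algebra (p.asIdeal.ResidueField ⊗[R] S) (p.asIdeal.ResidueField ⊗[R] T) :=
    (Algebra.TensorProduct.map (AlgHom.id R p.asIdeal.ResidueField)
      (IsScalarTower.toAlgHom R S T)).toRingHom.toAlgebra
  haveI hloc := isLocalization_away_tensor (R := R) s T p.asIdeal.ResidueField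
  haveI : IsScalarTower p.asIdeal.ResidueField (p.asIdeal.ResidueField ⊗[R] S)
      (p.asIdeal.ResidueField ⊗[R] T) :=
    .of_algebraMap_eq <| by intro; simp [RingHom.algebraMap_toAlgebra]
  have e : Localization.Away ((1 : p.asIdeal.ResidueField) ⊗ₜ[R] s) ≃ₐ[p.asIdeal.ResidueField ⊗[R] S]
      (p.asIdeal.ResidueField ⊗[R] T) :=
    IsLocalization.algEquiv (Submonoid.powers ((1 : p.asIdeal.ResidueField) ⊗ₜ[R] s)) _ _
  have h1 := Groth.Agent.H8.GCI.isLCIOver_away (p.asIdeal.Fiber S)
    ((1 : p.asIdeal.ResidueField) ⊗ₜ[R] s) (hfib p)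
  exact Groth.Agent.H8.LCILocal.isLCIOver_of_algEquiv (e.restrictScalars p.asIdeal.ResidueField) h1

end target

section source

theorem isLCIOver_of_subsingleton (k A : Type u) [Field k] [CommRing A] [Algebra k A]
    [Subsingleton A] : Synt.IsLCIOver k A := by
  refine ⟨⟨∅, Subsingleton.elim _ _⟩, fun p => ?_⟩
  exact absurd (Subsingleton.elim _ _) p.2.ne_top

variable (R R' T : Type u) [CommRing R] [CommRing R'] [CommRing T] [Algebra R R'] [Algebra R' T]
  [Algebra R T] [IsScalarTower R R' T]

/-- composition with a localization away on the source. -/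
theorem isSyntomic_trans_away_source (r : R) [IsLocalization.Away r R']
    (h : Synt.IsSyntomic R' T) : Synt.IsSyntomic R T := by
  obtain ⟨hflat, hfp, hfib⟩ := h
  haveI : Module.Flat R R' := IsLocalization.flat R' (Submonoid.powers r)
  haveI : Algebra.FinitePresentation R R' := IsLocalization.Away.finitePresentation r
  refine ⟨Module.Flat.trans R R' T, Algebra.FinitePresentation.trans R R' T, fun p => ?_⟩
  by_cases hr : r ∈ p.asIdeal
  · -- empty fibre
    haveI : Subsingleton (p.asIdeal.Fiber T) := by
      have hu : IsUnit (algebraMap R T r) := by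
        rw [IsScalarTower.algebraMap_apply R R' T]
        exact (IsLocalization.Away.algebraMap_isUnit r).map _
      obtain ⟨u, hu⟩ := hu
      have h0 : algebraMap R p.asIdeal.ResidueField r = 0 :=
        Ideal.algebraMap_residueField_eq_zero.mpr hr
      have h1 : (1 : p.asIdeal.ResidueField ⊗[R] T) = 0 := by
        calc (1 : p.asIdeal.ResidueField ⊗[R] T) = (1 : p.asIdeal.ResidueField) ⊗ₜ[R] (1 : T) := rfl
          _ = (1 : p.asIdeal.ResidueField) ⊗ₜ[R] (r • (↑u⁻¹ : T)) := by
              rw [Algebra.smul_def, ← hu, Units.mul_inv]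
          _ = (r • (1 : p.asIdeal.ResidueField)) ⊗ₜ[R] (↑u⁻¹ : T) := by
              rw [TensorProduct.smul_tmul]
          _ = 0 := by
              rw [Algebra.smul_def, h0, zero_mul, TensorProduct.zero_tmul]
      exact subsingleton_of_zero_eq_one h1.symm
    exact isLCIOver_of_subsingleton _ _
  · -- the prime of `R'`
    have hdisj : Disjoint (Submonoid.powers r : Set R) (p.asIdeal : Set R) :=
      (Ideal.disjoint_powers_iff_notMem _ p.2.isRadical).mpr hr
    haveI hp' : (p.asIdeal.map (algebraMap R R')).IsPrime :=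
      IsLocalization.isPrime_of_isPrime_disjoint (Submonoid.powers r) R' _ p.2 hdisj
    have hcomap : p.asIdeal = (p.asIdeal.map (algebraMap R R')).comap (algebraMap R R') :=
      (IsLocalization.under_map_of_isPrime_disjoint (Submonoid.powers r) R' p.2 hdisj).symm
    have hbij := RingHom.SurjectiveOnStalks.residueFieldMap_bijective
      (RingHom.surjectiveOnStalks_of_isLocalization (Submonoid.powers r) R')
      p.asIdeal (p.asIdeal.map (algebraMap R R')) hcomap
    set p' : Ideal R' := p.asIdeal.map (algebraMap R R') with hp'def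
    let σ : p.asIdeal.ResidueField ≃ₐ[R] p'.ResidueField :=
      AlgEquiv.ofBijective (Ideal.ResidueField.mapₐ p.asIdeal p' (Algebra.ofId R R') hcomap) hbij
    let e2 : p'.ResidueField ⊗[R'] T ≃ₐ[R'] p'.ResidueField ⊗[R] T :=
      IsLocalization.algebraTensorEquiv (Submonoid.powers r) R' p'.ResidueField T
    let e1 : p'.ResidueField ⊗[R] T ≃ₐ[R] p.asIdeal.ResidueField ⊗[R] T :=
      Algebra.TensorProduct.congr σ.symm AlgEquiv.refl
    let e : p'.ResidueField ⊗[R'] T ≃+* p.asIdeal.ResidueField ⊗[R] T :=
      e2.toRingEquiv.trans e1.toRingEquiv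
    refine Groth.Agent.H8.CITransport.isLCIOver_of_ringEquiv σ.symm.toRingEquiv e ?_
      (hfib ⟨p', hp'⟩)
    intro c
    show e1 (e2 (c ⊗ₜ[R'] (1 : T))) = (σ.symm c) ⊗ₜ[R] (1 : T)
    have h2 : e2 (c ⊗ₜ[R'] (1 : T)) = c ⊗ₜ[R] (1 : T) := rfl
    rw [h2]
    simp [e1]

end source

end Groth.Agent.H8.SyntLocal
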