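import Mathlib
import Groth.Prelude
import Groth.Agent.Lib.Helper8.Synt.Local1

set_option autoImplicit false
set_option linter.style.haveILetI false

universe u

open TensorProduct Algebra CategoryTheory AlgebraicGeometry

namespace Groth.Agent.H8.SyntLocal

open Groth.Agent.H8.Synt Groth.Agent.H8.RGCI

/-- the ring-hom property underlying `Synt.IsSyntomic`. -/
def IsSyntomicHom {R S : Type u} [CommRing R] [CommRing S] (f : R →+* S) : Prop :=
  letI : Algebra R S := f.toAlgebra
  Synt.IsSyntomic R S

lemma isSyntomicHom_algebraMap_iff {R S : Type u} [CommRing R] [CommRing S] [Algebra R S] :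
    IsSyntomicHom (algebraMap R S) ↔ Synt.IsSyntomic R S := by
  rw [IsSyntomicHom, toAlgebra_algebraMap]

namespace IsSyntomicHom

lemma stableUnderCompositionWithLocalizationAway :
    RingHom.StableUnderCompositionWithLocalizationAway @IsSyntomicHom := by
  constructor
  · intro R S T _ _ _ _ r _ f hf
    letI : Algebra S T := f.toAlgebra
    letI : Algebra R T := (f.comp (algebraMap R S)).toAlgebra
    haveI : IsScalarTower R S T := IsScalarTower.of_algebraMap_eq' rfl
    exact isSyntomic_trans_away_source R S T r hf
  · intro R S T _ _ _ _ s _ f hf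
    letI : Algebra R S := f.toAlgebra
    letI : Algebra R T := ((algebraMap S T).comp f).toAlgebra
    haveI : IsScalarTower R S T := IsScalarTower.of_algebraMap_eq' rfl
    exact isSyntomic_trans_away_target R S T s hf

lemma respectsIso : RingHom.RespectsIso @IsSyntomicHom :=
  stableUnderCompositionWithLocalizationAway.respectsIso

lemma isStableUnderBaseChange : RingHom.IsStableUnderBaseChange @IsSyntomicHom := by
  apply RingHom.IsStableUnderBaseChange.mk respectsIso
  intro R S T _ _ _ _ _ h
  rw [isSyntomicHom_algebraMap_iff] at h ⊢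
  exact isSyntomic_baseChange R T S h

lemma ofLocalizationSpanTarget : RingHom.OfLocalizationSpanTarget @IsSyntomicHom := by
  rw [RingHom.ofLocalizationSpanTarget_iff_finite]
  intro R S _ _ f s hs h
  letI : Algebra R S := f.toAlgebra
  refine Groth.Agent.H8.LCILocal.isSyntomic_of_span R S s hs (fun g hg => ?_)
  have h1 := h ⟨g, hg⟩
  unfold IsSyntomicHom at h1
  have heq : (((algebraMap S (Localization.Away g)).comp f).toAlgebra :
      Algebra R (Localization.Away g)) = (inferInstance : Algebra R (Localization.Away g)) := by
    apply Algebra.algebra_ext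
    intro r
    exact (IsScalarTower.algebraMap_apply R S (Localization.Away g) r).symm
  rw [heq] at h1
  exact h1

lemma propertyIsLocal : RingHom.PropertyIsLocal @IsSyntomicHom where
  localizationAwayPreserves := isStableUnderBaseChange.localizationPreserves.away
  ofLocalizationSpanTarget := ofLocalizationSpanTarget
  ofLocalizationSpan := ofLocalizationSpanTarget.ofLocalizationSpan
    stableUnderCompositionWithLocalizationAway.left
  StableUnderCompositionWithLocalizationAwayTarget :=
    stableUnderCompositionWithLocalizationAway.right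

end IsSyntomicHom

/-- the morphism property of schemes associated with syntomic ring maps. -/
def SyntomicP : MorphismProperty Scheme.{u} := affineLocally @IsSyntomicHom

instance : HasRingHomProperty SyntomicP @IsSyntomicHom :=
  ⟨IsSyntomicHom.propertyIsLocal, rfl⟩

theorem isSyntomicMor_iff {X S : Scheme.{u}} (f : X ⟶ S) :
    Synt.IsSyntomicMor f ↔ SyntomicP f := by
  rw [HasRingHomProperty.iff_exists_appLE (P := SyntomicP)
    IsSyntomicHom.stableUnderCompositionWithLocalizationAway.left]
  constructor
  · intro h x
    obtain ⟨U, V, e, hx, hs⟩ := h x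
    exact ⟨V, U, hx, e, hs⟩
  · intro h x
    obtain ⟨V, U, hx, e, hs⟩ := h x
    exact ⟨U, V, e, hx, hs⟩

theorem isSyntomicMor_iff_forall {X S : Scheme.{u}} (f : X ⟶ S) :
    Synt.IsSyntomicMor f ↔
      ∀ (U : X.affineOpens) (V : S.affineOpens) (e : U.1 ≤ f ⁻¹ᵁ V.1),
        letI := (f.appLE V.1 U.1 e).hom.toAlgebra
        Synt.IsSyntomic Γ(S, V.1) Γ(X, U.1) := by
  rw [isSyntomicMor_iff, HasRingHomProperty.iff_appLE (P := SyntomicP)]
  constructor
  · intro h U V e
    exact h V U e
  · intro h V U e
    exact h U V e

end Groth.Agent.H8.SyntLocal
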