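import Mathlib
import Groth.Prelude
import Groth.Agent.Lib.Helper8.Synt.Local2
import Groth.Agent.Lib.Helper8.RGCI.Main2237
import Groth.Agent.Lib.Helper8.RGCI.Main9147
import Groth.Agent.Lib.Helper8.CI.SyntFieldSch

set_option autoImplicit false
set_option linter.style.haveILetI false

universe u

open TensorProduct Algebra CategoryTheory AlgebraicGeometry

namespace Groth.Agent.H8.SyntLocal

open Groth.Agent.H8.Synt Groth.Agent.H8.RGCI

instance : MorphismProperty.IsStableUnderBaseChange SyntomicP.{u} :=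
  HasRingHomProperty.isStableUnderBaseChange IsSyntomicHom.isStableUnderBaseChange

instance : MorphismProperty.Respects SyntomicP.{u} @IsOpenImmersion :=
  HasRingHomProperty.respects_isOpenImmersion
    IsSyntomicHom.stableUnderCompositionWithLocalizationAway.left

variable {X S : Scheme.{u}} (f : X ⟶ S)

/-- L1: for affine opens, `SyntomicP` of the restriction is syntomicity of the ring map. -/
theorem syntomicP_resLE_iff (U : X.affineOpens) (V : S.affineOpens) (e : U.1 ≤ f ⁻¹ᵁ V.1) :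
    SyntomicP (f.resLE V.1 U.1 e) ↔ IsSyntomicHom (f.appLE V.1 U.1 e).hom := by
  haveI : IsAffine U.1.toScheme := U.2
  haveI : IsAffine V.1.toScheme := V.2
  rw [HasRingHomProperty.iff_of_isAffine (P := SyntomicP)]
  exact IsSyntomicHom.respectsIso.arrow_mk_iso_iff (arrowResLEAppIso f V.1 U.1 e)

variable {f} in
/-- L2': syntomic at a point means syntomic on an open neighbourhood. -/
theorem exists_open_of_isSyntomicAt {x : X} (h : Synt.IsSyntomicAt f x) :
    ∃ W : X.Opens, x ∈ W ∧ SyntomicP (W.ι ≫ f) := by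
  obtain ⟨U, V, e, hx, hs⟩ := h
  refine ⟨U.1, hx, ?_⟩
  rw [← Scheme.Hom.resLE_comp_ι f e]
  exact MorphismProperty.RespectsRight.postcomp (Q := @IsOpenImmersion) _ inferInstance _
    ((syntomicP_resLE_iff f U V e).mpr hs)

theorem isSyntomicAt_of_open {x : X} (W : X.Opens) (hx : x ∈ W) (h : SyntomicP (W.ι ≫ f)) :
    Synt.IsSyntomicAt f x := by
  obtain ⟨V, hV, hfx, -⟩ :=
    exists_isAffineOpen_mem_and_subset (X := S) (x := f x) (U := ⊤) trivial
  obtain ⟨U, hU, hxU, hUV⟩ :=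
    exists_isAffineOpen_mem_and_subset (X := X) (x := x) (U := W ⊓ f ⁻¹ᵁ V) ⟨hx, hfx⟩
  have hUW : U ≤ W := hUV.trans inf_le_left
  have hUfV : U ≤ f ⁻¹ᵁ V := hUV.trans inf_le_right
  refine ⟨⟨U, hU⟩, ⟨V, hV⟩, hUfV, hxU, ?_⟩
  refine (syntomicP_resLE_iff f ⟨U, hU⟩ ⟨V, hV⟩ hUfV).mp ?_
  have h1 : SyntomicP (U.ι ≫ f) := by
    rw [← X.homOfLE_ι hUW, Category.assoc]
    exact IsZariskiLocalAtSource.comp h _
  rw [← Scheme.Hom.resLE_comp_ι f hUfV] at h1
  exact MorphismProperty.of_postcomp (W := SyntomicP) (W' := @IsOpenImmersion) _ V.ι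
    inferInstance h1

/-- the restriction of `f` to affine opens is `Spec` of `appLE`, under `isoSpec`. -/
theorem isoSpec_hom_SpecMap_appLE (U : X.affineOpens) (V : S.affineOpens) (e : U.1 ≤ f ⁻¹ᵁ V.1) :
    U.2.isoSpec.hom ≫ Spec.map (f.appLE V.1 U.1 e) = f.resLE V.1 U.1 e ≫ V.2.isoSpec.hom := by
  have h1 := IsAffineOpen.SpecMap_appLE_fromSpec f V.2 U.2 e
  rw [← IsAffineOpen.isoSpec_inv_ι, ← IsAffineOpen.isoSpec_inv_ι, Category.assoc,
    ← Scheme.Hom.resLE_comp_ι f e, ← Category.assoc, ← Category.assoc, cancel_mono] at h1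
  rw [← cancel_epi U.2.isoSpec.inv, ← Category.assoc, Iso.inv_hom_id, Category.id_comp,
    ← Category.assoc, ← h1, Category.assoc, Iso.inv_hom_id, Category.comp_id]

/-- L3': a restriction to affine opens whose ring map is a relative global complete intersection
presentation is standard syntomic. -/
theorem isStandardSyntomic_resLE (U : X.affineOpens) (V : S.affineOpens) (e : U.1 ≤ f ⁻¹ᵁ V.1)
    (n c : ℕ) (F : Fin c → MvPolynomial (Fin n) Γ(S, V.1)) (hF : Synt.IsRelGCI Γ(S, V.1) n c F)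
    (φ : letI := (f.appLE V.1 U.1 e).hom.toAlgebra
      Γ(X, U.1) ≃ₐ[Γ(S, V.1)] Synt.RelGCIRing Γ(S, V.1) n c F) :
    Synt.IsStandardSyntomic (f.resLE V.1 U.1 e) := by
  letI := (f.appLE V.1 U.1 e).hom.toAlgebra
  let ψ : CommRingCat.of (Synt.RelGCIRing Γ(S, V.1) n c F) ≅ Γ(X, U.1) :=
    (φ.symm.toRingEquiv).toCommRingCatIso
  refine ⟨Γ(S, V.1), inferInstance, n, c, F, hF,
    U.2.isoSpec ≪≫ (Scheme.Spec.mapIso ψ.op), V.2.isoSpec, ?_⟩
  have h1 : CommRingCat.ofHom (algebraMap Γ(S, V.1) (Synt.RelGCIRing Γ(S, V.1) n c F)) ≫ ψ.hom =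
      f.appLE V.1 U.1 e := by
    ext a
    exact φ.symm.commutes a
  rw [← isoSpec_hom_SpecMap_appLE, ← h1, Spec.map_comp]
  rfl

/-- if `f` is syntomic on the open `W`, then all restrictions `f.resLE V U` with `U ≤ W` are. -/
theorem syntomicP_resLE_of_open (W : X.Opens) (h : SyntomicP (W.ι ≫ f)) (U : X.Opens) (hUW : U ≤ W)
    (V : S.Opens) (e : U ≤ f ⁻¹ᵁ V) : SyntomicP (f.resLE V U e) := by
  have h1 : SyntomicP (U.ι ≫ f) := by
    rw [← X.homOfLE_ι hUW, Category.assoc]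
    exact IsZariskiLocalAtSource.comp h _
  rw [← Scheme.Hom.resLE_comp_ι f e] at h1
  exact MorphismProperty.of_postcomp (W := SyntomicP) (W' := @IsOpenImmersion) _ V.ι
    inferInstance h1

theorem main9364 (x : X) (V : S.affineOpens) (hV : f x ∈ V.1) :
    Synt.IsSyntomicAt f x ↔
      ∃ (U : X.affineOpens) (e : U.1 ≤ f ⁻¹ᵁ V.1), x ∈ U.1 ∧
        Synt.IsStandardSyntomic (f.resLE V.1 U.1 e) := by
  constructor
  · intro h
    obtain ⟨W, hxW, hW⟩ := exists_open_of_isSyntomicAt h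
    obtain ⟨U, hU, hxU, hUV⟩ :=
      exists_isAffineOpen_mem_and_subset (X := X) (x := x) (U := W ⊓ f ⁻¹ᵁ V.1) ⟨hxW, hV⟩
    have hUW : U ≤ W := hUV.trans inf_le_left
    have hUfV : U ≤ f ⁻¹ᵁ V.1 := hUV.trans inf_le_right
    have hs := (syntomicP_resLE_iff f ⟨U, hU⟩ V hUfV).mp
      (syntomicP_resLE_of_open f W hW U hUW V.1 hUfV)
    letI algAB : Algebra Γ(S, V.1) Γ(X, U) := (f.appLE V.1 U hUfV).hom.toAlgebra
    have hs' : Synt.IsSyntomic Γ(S, V.1) Γ(X, U) := hs
    obtain ⟨b, hb, n, c, F, hF, ⟨φ⟩⟩ :=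
      exists_relGCI_of_isSyntomic hs' (hU.primeIdealOf ⟨x, hxU⟩).asIdeal
    have hxb : x ∈ X.basicOpen b :=
      (Groth.Agent.H8.SyntField.notMem_primeIdealOf_iff hU x hxU b).mp hb
    have hbU : X.basicOpen b ≤ U := X.basicOpen_le b
    have hbV : X.basicOpen b ≤ f ⁻¹ᵁ V.1 := hbU.trans hUfV
    refine ⟨⟨X.basicOpen b, hU.basicOpen b⟩, hbV, hxb, ?_⟩
    letI algAB' : Algebra Γ(S, V.1) Γ(X, X.basicOpen b) :=
      (f.appLE V.1 (X.basicOpen b) hbV).hom.toAlgebra
    haveI : IsScalarTower Γ(S, V.1) Γ(X, U) Γ(X, X.basicOpen b) := by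
      refine IsScalarTower.of_algebraMap_eq' ?_
      show (f.appLE V.1 (X.basicOpen b) hbV).hom =
        (X.presheaf.map (homOfLE hbU).op).hom.comp (f.appLE V.1 U hUfV).hom
      rw [← CommRingCat.hom_comp, Scheme.Hom.appLE_map]
    haveI := hU.isLocalization_basicOpen b
    let ε : Localization.Away b ≃ₐ[Γ(X, U)] Γ(X, X.basicOpen b) :=
      IsLocalization.algEquiv (Submonoid.powers b) _ _
    exact isStandardSyntomic_resLE f ⟨X.basicOpen b, hU.basicOpen b⟩ V hbV n c F hF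
      ((ε.restrictScalars Γ(S, V.1)).symm.trans φ)
  · rintro ⟨U, e, hx, R, _, n, c, F, hF, e₁, e₂, comm⟩
    refine ⟨U, V, e, hx, ?_⟩
    refine (syntomicP_resLE_iff f U V e).mp ?_
    have h1 : SyntomicP (Spec.map (CommRingCat.ofHom
        (algebraMap R (Synt.RelGCIRing R n c F)))) := by
      rw [HasRingHomProperty.Spec_iff (P := SyntomicP)]
      exact isSyntomicHom_algebraMap_iff.mpr (isSyntomic_of_isRelGCI F hF)
    have h2 : f.resLE V.1 U.1 e = e₁.hom ≫ Spec.map (CommRingCat.ofHom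
        (algebraMap R (Synt.RelGCIRing R n c F))) ≫ e₂.inv := by
      rw [← Category.assoc, comm, Category.assoc, Iso.hom_inv_id, Category.comp_id]
    rw [h2]
    exact (SyntomicP.cancel_left_of_respectsIso _ _).mpr
      ((SyntomicP.cancel_right_of_respectsIso _ _).mpr h1)

end Groth.Agent.H8.SyntLocal
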