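import Mathlib
import Groth.Prelude
import Groth.Agent.Lib.Helper8.Synt.Local3
import Groth.Agent.Lib.Helper8.Kos.LCIQuot
import Groth.Agent.Lib.Helper1.RegImmersion

set_option autoImplicit false
set_option linter.style.haveILetI false

universe u

open CategoryTheory AlgebraicGeometry

namespace Groth.Agent.H8.SyntLocal

open Groth.Agent.H8.KosConcat

/-- ring-level step with explicit ring homs. -/
theorem isSyntomicHom_comp_of_smooth_of_koszul {A C B : Type u} [CommRing A] [CommRing C]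
    [CommRing B] (φ : A →+* C) (ψ : C →+* B) (hφ : φ.Smooth) (hflat : (ψ.comp φ).Flat)
    (hψ : Function.Surjective ψ) (rs : List C) (hrs : LCI.IsKoszulRegularSeq C rs)
    (hker : RingHom.ker ψ = Ideal.span {x | x ∈ rs}) : IsSyntomicHom (ψ.comp φ) := by
  letI : Algebra A C := φ.toAlgebra
  letI : Algebra C B := ψ.toAlgebra
  letI : Algebra A B := (ψ.comp φ).toAlgebra
  haveI : IsScalarTower A C B := IsScalarTower.of_algebraMap_eq' rfl
  haveI : Algebra.Smooth A C := hφ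
  haveI : Module.Flat A B := hflat
  exact isSyntomic_quot_of_smooth A C B hψ rs hrs hker

/-- localization of a surjection with Koszul-regular kernel. -/
theorem away_map_koszul {C₀ B₀ C' B' : Type u} [CommRing C₀] [CommRing B₀] [CommRing C']
    [CommRing B'] (φ₀ : C₀ →+* B₀) (hφ₀ : Function.Surjective φ₀) (rs : List C₀)
    (hrs : LCI.IsKoszulRegularSeq C₀ rs) (hker : RingHom.ker φ₀ = Ideal.span {x | x ∈ rs})
    (c : C₀) [Algebra C₀ C'] [IsLocalization.Away c C'] [Algebra B₀ B']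
    [IsLocalization.Away (φ₀ c) B'] :
    Function.Surjective (IsLocalization.Away.map C' B' φ₀ c) ∧
      LCI.IsKoszulRegularSeq C' (rs.map (algebraMap C₀ C')) ∧
      RingHom.ker (IsLocalization.Away.map C' B' φ₀ c) =
        Ideal.span {x | x ∈ rs.map (algebraMap C₀ C')} := by
  haveI : Module.Flat C₀ C' := IsLocalization.flat C' (Submonoid.powers c)
  refine ⟨?_, Groth.Agent.H4.KosBC.isKoszulRegularSeq_map rs hrs, ?_⟩
  · haveI : IsLocalization ((Submonoid.powers c).map φ₀) B' := by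
      rw [Submonoid.map_powers]; infer_instance
    exact IsLocalization.map_surjective_of_surjective (M := Submonoid.powers c)
      (S := C') (Q := B') hφ₀
  · rw [← map_span_mem, ← hker]
    exact IsLocalization.ker_map (M := Submonoid.powers c) (S := C') B' φ₀
      (Submonoid.map_powers φ₀ c)

/-- K''': a closed subscheme of an affine open of a smooth `S`-scheme cut out by a Koszul-regular
sequence, flat over `S`, is syntomic over `S` near each of its points. -/
theorem isSyntomicAt_comp_of_koszul {U₀ P S : Scheme.{u}} (i : U₀ ⟶ P) (π : P ⟶ S) [Smooth π]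
    [Flat (i ≫ π)] (W : P.affineOpens) (hWa : IsAffineOpen (i ⁻¹ᵁ W.1))
    (hsurj : Function.Surjective (i.app W.1).hom) (rs : List Γ(P, W.1))
    (hrs : LCI.IsKoszulRegularSeq Γ(P, W.1) rs)
    (hker : RingHom.ker (i.app W.1).hom = Ideal.ofList rs) (y : U₀) (hy : i y ∈ W.1) :
    Synt.IsSyntomicAt (i ≫ π) y := by
  obtain ⟨V', hV', hyV', -⟩ :=
    exists_isAffineOpen_mem_and_subset (X := S) (x := (i ≫ π) y) (U := ⊤) trivial
  have hmem : i y ∈ π ⁻¹ᵁ V' := by
    simpa using hyV'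
  obtain ⟨c, hcle, hyc⟩ := W.2.exists_basicOpen_le (V := π ⁻¹ᵁ V') ⟨i y, hmem⟩ hy
  -- the ring map on `W`
  set φ₀ := i.appLE W.1 (i ⁻¹ᵁ W.1) le_rfl with hφ₀def
  have hφ₀ : φ₀ = i.app W.1 := Scheme.Hom.appLE_eq_app ..
  have hsurj₀ : Function.Surjective φ₀.hom := by rw [hφ₀]; exact hsurj
  have hker₀ : RingHom.ker φ₀.hom = Ideal.span {x | x ∈ rs} := by rw [hφ₀]; exact hker
  set b := φ₀.hom c with hb
  have hpre : i ⁻¹ᵁ P.basicOpen c = U₀.basicOpen b := by
    rw [Scheme.preimage_basicOpen, hb, hφ₀]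
  have hU'aff : IsAffineOpen (U₀.basicOpen b) := hWa.basicOpen b
  have hyU' : y ∈ U₀.basicOpen b := by
    rw [← hpre]
    exact hyc
  have e1 : U₀.basicOpen b ≤ i ⁻¹ᵁ P.basicOpen c := hpre.ge
  have e2 : P.basicOpen c ≤ π ⁻¹ᵁ V' := hcle
  have e : U₀.basicOpen b ≤ (i ≫ π) ⁻¹ᵁ V' := by
    intro z hz
    exact e2 (e1 hz)
  refine ⟨⟨U₀.basicOpen b, hU'aff⟩, ⟨V', hV'⟩, e, hyU', ?_⟩
  -- the ring maps
  have hcomp : (i ≫ π).appLE V' (U₀.basicOpen b) e =
      π.appLE V' (P.basicOpen c) e2 ≫ i.appLE (P.basicOpen c) (U₀.basicOpen b) e1 :=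
    (Scheme.Hom.appLE_comp_appLE i π V' (P.basicOpen c) (U₀.basicOpen b) e2 e1).symm
  have hsm : (π.appLE V' (P.basicOpen c) e2).hom.Smooth :=
    HasRingHomProperty.appLE (P := @Smooth) π inferInstance ⟨V', hV'⟩
      ⟨P.basicOpen c, W.2.basicOpen c⟩ e2
  have hfl : ((i ≫ π).appLE V' (U₀.basicOpen b) e).hom.Flat :=
    HasRingHomProperty.appLE (P := @Flat) (i ≫ π) inferInstance ⟨V', hV'⟩
      ⟨U₀.basicOpen b, hU'aff⟩ e
  haveI := W.2.isLocalization_basicOpen c
  haveI := hWa.isLocalization_basicOpen b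
  have haway := IsAffineOpen.appLE_eq_away_map i W.2 hWa le_rfl c
  obtain ⟨h1, h2, h3⟩ := away_map_koszul (C' := Γ(P, P.basicOpen c))
    (B' := Γ(U₀, U₀.basicOpen b)) φ₀.hom hsurj₀ rs hrs hker₀ c
  have hψ : (i.appLE (P.basicOpen c) (U₀.basicOpen b) e1).hom =
      IsLocalization.Away.map Γ(P, P.basicOpen c) Γ(U₀, U₀.basicOpen b) φ₀.hom c := by
    have := congrArg CommRingCat.Hom.hom haway
    exact this
  show IsSyntomicHom ((i ≫ π).appLE V' (U₀.basicOpen b) e).hom
  rw [hcomp, CommRingCat.hom_comp]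
  refine isSyntomicHom_comp_of_smooth_of_koszul _ _ hsm ?_ (by rw [hψ]; exact h1) _ h2
    (by rw [hψ]; exact h3)
  rw [← CommRingCat.hom_comp, ← hcomp]
  exact hfl

/-- syntomic at a point can be checked after an open immersion into the source. -/
theorem isSyntomicAt_of_isOpenImmersion {X S Y : Scheme.{u}} (f : X ⟶ S) (j : Y ⟶ X)
    [IsOpenImmersion j] (y : Y) (h : Synt.IsSyntomicAt (j ≫ f) y) : Synt.IsSyntomicAt f (j y) := by
  obtain ⟨W, hyW, hW⟩ := exists_open_of_isSyntomicAt h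
  -- the open immersion `W → Y → X`
  let k : W.toScheme ⟶ X := W.ι ≫ j
  have hk : SyntomicP (k ≫ f) := by
    simpa [k] using hW
  let W'' : X.Opens := k.opensRange
  have hx : j y ∈ W'' := ⟨⟨y, hyW⟩, rfl⟩
  refine isSyntomicAt_of_open f W'' hx ?_
  let ε : W.toScheme ≅ W''.toScheme := IsOpenImmersion.isoOfRangeEq k W''.ι (by simp [W''])
  have hε : ε.hom ≫ W''.ι = k := IsOpenImmersion.isoOfRangeEq_hom_fac _ _ _
  have : W''.ι ≫ f = ε.inv ≫ (k ≫ f) := by
    rw [← hε, Category.assoc, Iso.inv_hom_id_assoc]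
  rw [this]
  exact (SyntomicP.cancel_left_of_respectsIso _ _).mpr hk

/-- R1: flat and Koszul at a point implies syntomic at the point. -/
theorem isSyntomicAt_of_isKoszulAt {X S : Scheme.{u}} (f : X ⟶ S) [Flat f] (x : X)
    (h : Synt.IsKoszulAt f x) : Synt.IsSyntomicAt f x := by
  obtain ⟨U, P, i, π, hxU, -, ⟨-, hreg⟩, hsm, hcomm⟩ := h
  obtain ⟨W, hzW, hcl, rs, hrs, hker⟩ := hreg ⟨x, hxU⟩
  haveI := hcl
  haveI := hsm
  obtain ⟨hWa, hsurj⟩ :=
    Groth.Agent.H1.RegImmersion.affine_and_surjective_of_isClosedImmersion_restrict i W.1 W.2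
  haveI : Flat (i ≫ π) := by
    rw [hcomm]
    infer_instance
  have h1 := isSyntomicAt_comp_of_koszul i π W hWa hsurj rs hrs hker ⟨x, hxU⟩ hzW
  rw [hcomm] at h1
  exact isSyntomicAt_of_isOpenImmersion f U.ι ⟨x, hxU⟩ h1

end Groth.Agent.H8.SyntLocal
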