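import Mathlib
import Groth.Prelude
import Groth.Agent.Lib.Helper8.Synt.Kos1
import Groth.Agent.Lib.Helper8.RGCI.Main9254

set_option autoImplicit false
set_option linter.style.haveILetI false

universe u

open CategoryTheory AlgebraicGeometry

namespace Groth.Agent.H8.SyntLocal

open Groth.Agent.H8.KosConcat

/-- transport of Koszul-regularity along a ring isomorphism. -/
theorem isKoszulRegularSeq_map_ringEquiv {A B : Type u} [CommRing A] [CommRing B] (e : A ≃+* B)
    (l : List A) (hl : LCI.IsKoszulRegularSeq A l) : LCI.IsKoszulRegularSeq B (l.map e) := by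
  letI : Algebra A B := (e : A →+* B).toAlgebra
  haveI : Module.Flat A B := by
    have : (e : A →+* B).Flat := RingHom.Flat.of_bijective e.bijective
    exact this
  exact Groth.Agent.H4.KosBC.isKoszulRegularSeq_map l hl

/-- precomposing with an isomorphism preserves regular immersions. -/
theorem isRegularImmersion_iso_comp {Z Z' X : Scheme.{u}} (k : RegImm.Kind) (ε : Z' ⟶ Z) [IsIso ε]
    (j : Z ⟶ X) (h : RegImm.IsRegularImmersion k j) : RegImm.IsRegularImmersion k (ε ≫ j) := by
  obtain ⟨himm, hreg⟩ := h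
  haveI := himm
  refine ⟨inferInstance, fun z => ?_⟩
  obtain ⟨U, hzU, hcl, rs, hrs, hker⟩ := hreg (ε z)
  haveI := hcl
  refine ⟨U, by simpa using hzU, ?_, rs, hrs, ?_⟩
  · rw [morphismRestrict_comp]
    exact @IsClosedImmersion.comp _ _ _ (ε ∣_ j ⁻¹ᵁ U.1) (j ∣_ U.1) inferInstance inferInstance
  · rw [← hker]
    ext a
    rw [RingHom.mem_ker, RingHom.mem_ker]
    have hinj : Function.Injective (ε.app (j ⁻¹ᵁ U.1)).hom :=
      (ConcreteCategory.bijective_of_isIso (ε.app (j ⁻¹ᵁ U.1))).1
    have h1 : ((ε ≫ j).app U.1).hom a = (ε.app (j ⁻¹ᵁ U.1)).hom ((j.app U.1).hom a) :=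
      congrArg (fun φ => φ.hom a) (Scheme.Hom.comp_app ε j U.1)
    rw [h1]
    constructor
    · intro h0
      exact hinj (h0.trans (map_zero _).symm)
    · intro h0
      rw [h0]
      exact map_zero _

theorem ofList_map_ringEquiv {A B : Type u} [CommRing A] [CommRing B] (e : A ≃+* B)
    (l : List A) : Ideal.ofList (l.map e) = Ideal.map e (Ideal.ofList l) :=
  (Ideal.map_ofList (e : A →+* B) l).symm

/-- `Spec (A/(l)) ⟶ Spec A` is a Koszul-regular immersion for a Koszul-regular sequence `l`. -/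
theorem isRegularImmersion_Spec_mk {A : Type u} [CommRing A] (l : List A)
    (hl : LCI.IsKoszulRegularSeq A l) (I : Ideal A) (hI : I = Ideal.ofList l) :
    RegImm.IsRegularImmersion .koszul (Spec.map (CommRingCat.ofHom (Ideal.Quotient.mk I))) := by
  haveI hci : IsClosedImmersion (Spec.map (CommRingCat.ofHom (Ideal.Quotient.mk I))) :=
    IsClosedImmersion.spec_of_surjective (CommRingCat.ofHom (Ideal.Quotient.mk I))
      Ideal.Quotient.mk_surjective
  refine ⟨inferInstance, fun z => ?_⟩
  let e : A ≃+* Γ(Spec (CommRingCat.of A), ⊤) :=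
    (Scheme.ΓSpecIso (CommRingCat.of A)).symm.commRingCatIsoToRingEquiv
  refine ⟨⟨⊤, isAffineOpen_top _⟩, trivial, ?_, l.map e, ?_, ?_⟩
  · exact IsZariskiLocalAtTarget.restrict (P := @IsClosedImmersion) hci _
  · exact isKoszulRegularSeq_map_ringEquiv e l hl
  · have hnat := Scheme.ΓSpecIso_naturality (CommRingCat.ofHom (Ideal.Quotient.mk I))
    ext a
    rw [RingHom.mem_ker]
    have hinj : Function.Injective (Scheme.ΓSpecIso (CommRingCat.of (A ⧸ I))).hom.hom :=
      (ConcreteCategory.bijective_of_isIso (Scheme.ΓSpecIso (CommRingCat.of (A ⧸ I))).hom).1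
    have h1 : (Scheme.ΓSpecIso (CommRingCat.of (A ⧸ I))).hom.hom
        (((Spec.map (CommRingCat.ofHom (Ideal.Quotient.mk I))).app ⊤).hom a) =
        Ideal.Quotient.mk I ((Scheme.ΓSpecIso (CommRingCat.of A)).hom.hom a) :=
      congrArg (fun φ => φ.hom a) hnat
    have h2 : Ideal.ofList (l.map e) = Ideal.map e (Ideal.ofList l) :=
      ofList_map_ringEquiv e l
    have h3 : ∀ b : A, e b = (Scheme.ΓSpecIso (CommRingCat.of A)).inv.hom b := fun b => rfl
    have h4 : e ((Scheme.ΓSpecIso (CommRingCat.of A)).hom.hom a) = a := by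
      rw [h3]
      exact congrArg (fun φ => φ.hom a) (Scheme.ΓSpecIso (CommRingCat.of A)).hom_inv_id
    rw [h2, ← hI]
    constructor
    · intro h0
      have h5 : Ideal.Quotient.mk I ((Scheme.ΓSpecIso (CommRingCat.of A)).hom.hom a) = 0 := by
        rw [← h1, h0]
        exact map_zero _
      rw [Ideal.Quotient.eq_zero_iff_mem] at h5
      rw [← h4]
      exact Ideal.mem_map_of_mem e h5
    · intro ha
      apply hinj
      rw [h1]
      refine Eq.trans ?_ (map_zero _).symm
      rw [Ideal.Quotient.eq_zero_iff_mem]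
      have h6 : (Scheme.ΓSpecIso (CommRingCat.of A)).hom.hom a = e.symm a := by
        rw [← h4, RingEquiv.symm_apply_apply, h4]
      rw [h6]
      exact Ideal.symm_apply_mem_of_equiv_iff.mpr ha

/-- a standard syntomic restriction gives the Koszul factorisation. -/
theorem isKoszulAt_of_isStandardSyntomic {X S : Scheme.{u}} (f : X ⟶ S) (x : X)
    (U : X.Opens) (V : S.Opens) (e : U ≤ f ⁻¹ᵁ V) (hx : x ∈ U)
    (h : Synt.IsStandardSyntomic (f.resLE V U e)) : Synt.IsKoszulAt f x := by
  obtain ⟨R, _, n, c, F, hF, e₁, e₂, comm⟩ := h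
  let i : (U : Scheme.{u}) ⟶ Spec (CommRingCat.of (MvPolynomial (Fin n) R)) :=
    e₁.hom ≫ Spec.map (CommRingCat.ofHom (Ideal.Quotient.mk (Ideal.span (Set.range F))))
  let π : Spec (CommRingCat.of (MvPolynomial (Fin n) R)) ⟶ S :=
    Spec.map (CommRingCat.ofHom (algebraMap R (MvPolynomial (Fin n) R))) ≫ e₂.inv ≫ V.ι
  have hcomm : i ≫ π = U.ι ≫ f := by
    have h1 : Spec.map (CommRingCat.ofHom (Ideal.Quotient.mk (Ideal.span (Set.range F)))) ≫
        Spec.map (CommRingCat.ofHom (algebraMap R (MvPolynomial (Fin n) R))) =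
        Spec.map (CommRingCat.ofHom (algebraMap R (Synt.RelGCIRing R n c F))) := by
      rw [← Spec.map_comp]
      rfl
    calc i ≫ π = e₁.hom ≫ (Spec.map (CommRingCat.ofHom
          (Ideal.Quotient.mk (Ideal.span (Set.range F)))) ≫
          Spec.map (CommRingCat.ofHom (algebraMap R (MvPolynomial (Fin n) R)))) ≫
          e₂.inv ≫ V.ι := by simp only [i, π, Category.assoc]
      _ = (e₁.hom ≫ Spec.map (CommRingCat.ofHom (algebraMap R (Synt.RelGCIRing R n c F)))) ≫
          e₂.inv ≫ V.ι := by rw [h1, Category.assoc]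
      _ = f.resLE V U e ≫ V.ι := by
          rw [comm, Category.assoc, Iso.hom_inv_id_assoc]
      _ = U.ι ≫ f := Scheme.Hom.resLE_comp_ι f e
  have hsm0 : Smooth (Spec.map (CommRingCat.ofHom (algebraMap R (MvPolynomial (Fin n) R)))) := by
    rw [HasRingHomProperty.Spec_iff (P := @Smooth)]
    exact RingHom.smooth_algebraMap.mpr
      (⟨inferInstance, inferInstance⟩ : Algebra.Smooth R (MvPolynomial (Fin n) R))
  have hsm : Smooth π := inferInstance
  have hreg : RegImm.IsRegularImmersion .koszul i :=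
    isRegularImmersion_iso_comp .koszul e₁.hom _
      (isRegularImmersion_Spec_mk (List.ofFn F) (Groth.Agent.H8.RGCI.isKoszulRegularSeq_of_isRelGCI F hF) _ (by
        rw [Ideal.ofList]
        congr 1
        ext t
        simp [List.mem_ofFn]))
  have hci : IsClosedImmersion (Spec.map (CommRingCat.ofHom
      (Ideal.Quotient.mk (Ideal.span (Set.range F))))) :=
    IsClosedImmersion.spec_of_surjective (CommRingCat.ofHom (Ideal.Quotient.mk _))
      Ideal.Quotient.mk_surjective
  have hft : LocallyOfFiniteType (U.ι ≫ f) := by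
    rw [← hcomm]
    infer_instance
  exact ⟨U, _, i, π, hx, hft, hreg, hsm, hcomm⟩

theorem main9758 {X S : Scheme.{u}} (f : X ⟶ S) :
    (Flat f ∧ ∀ x : X, Synt.IsKoszulAt f x) ↔ Synt.IsSyntomicMor f := by
  constructor
  · rintro ⟨hfl, hk⟩ x
    haveI := hfl
    exact isSyntomicAt_of_isKoszulAt f x (hk x)
  · intro h
    refine ⟨?_, fun x => ?_⟩
    · rw [HasRingHomProperty.iff_appLE (P := @Flat)]
      intro V U e
      exact ((isSyntomicMor_iff_forall f).mp h U V e).1
    · obtain ⟨V, hV, hxV⟩ := exists_isAffineOpen_mem_and_subset (X := S) (x := f x) (U := ⊤) trivial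
      obtain ⟨U, e, hxU, hstd⟩ := (main9364 f x ⟨V, hV⟩ hxV.1).mp (h x)
      exact isKoszulAt_of_isStandardSyntomic f x U.1 V e hxU hstd

end Groth.Agent.H8.SyntLocal
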